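import Mathlib

/-!
# Equalizers of integral algebras

Equalizers commute with localization, and their primes separate the classes of a relation on the finitely many
primes over a given one.
-/

set_option autoImplicit false
set_option linter.all false
set_option backward.isDefEq.respectTransparency false
set_option backward.isDefEq.respectTransparency.types false
set_option maxHeartbeats 400000

universe u

open TensorProduct Polynomial

noncomputable section

namespace CoeqSch

/-- Localization commutes with equalizers. -/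
theorem isLocalization_eqLocus {A B A' B' : Type u} [CommRing A] [CommRing B] [CommRing A'] [CommRing B']
    (φ₁ φ₂ : A →+* B) (ψ₁ ψ₂ : A' →+* B') (α : A →+* A') (β : B →+* B')
    (h₁ : ψ₁.comp α = β.comp φ₁) (h₂ : ψ₂.comp α = β.comp φ₂)
    (D : Subring A) (hD : ∀ a, a ∈ D ↔ φ₁ a = φ₂ a) (D' : Subring A') (hD' : ∀ a, a ∈ D' ↔ ψ₁ a = ψ₂ a)
    (c : D) (hA : letI := α.toAlgebra; IsLocalization.Away (c : A) A')
    (hB : letI := β.toAlgebra; IsLocalization.Away (φ₁ c) B')
    (ι : D →+* D') (hι : ∀ d, (ι d : A') = α d) : letI := ι.toAlgebra; IsLocalization.Away c D' := by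
  letI := α.toAlgebra
  letI := β.toAlgebra
  letI := ι.toAlgebra
  have key : ∀ d : D, (algebraMap D D' d : A') = algebraMap A A' d := hι
  have hr : (c : A) ∈ D := c.2
  apply IsLocalization.Away.mk
  · obtain ⟨v, hv⟩ := isUnit_iff_exists_inv.1 (IsLocalization.Away.algebraMap_isUnit (S := A') (c : A))
    have hc : ψ₁ (α c) = ψ₂ (α c) := (hD' _).1 (hι c ▸ (ι c).2)
    have hv' : v ∈ D' := by
      rw [hD']
      have e1 : ψ₁ (α c) * ψ₁ v = 1 := by rw [← map_mul]; exact (congrArg ψ₁ hv).trans (map_one _)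
      have e2 : ψ₁ (α c) * ψ₂ v = 1 := by rw [hc, ← map_mul]; exact (congrArg ψ₂ hv).trans (map_one _)
      calc ψ₁ v = (ψ₁ (α c) * ψ₂ v) * ψ₁ v := by rw [e2, one_mul]
        _ = (ψ₁ (α c) * ψ₁ v) * ψ₂ v := by ring
        _ = ψ₂ v := by rw [e1, one_mul]
    refine isUnit_iff_exists_inv.2 ⟨⟨v, hv'⟩, Subtype.ext ?_⟩
    show (algebraMap D D' c : A') * v = 1
    rw [key]
    exact hv
  · intro z
    obtain ⟨n, a, hn⟩ := IsLocalization.Away.surj (c : A) (z : A')
    have hc : ψ₁ (α c) = ψ₂ (α c) := (hD' _).1 (hι c ▸ (ι c).2)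
    have e : β (φ₁ a) = β (φ₂ a) := by
      show (β.comp φ₁) a = (β.comp φ₂) a
      rw [← h₁, ← h₂]
      show ψ₁ (algebraMap A A' a) = ψ₂ (algebraMap A A' a)
      rw [← hn]
      simp only [map_mul, map_pow]
      rw [show ψ₁ (algebraMap A A' c) = ψ₂ (algebraMap A A' c) from hc, (hD' _).1 z.2]
    obtain ⟨m, hm⟩ := IsLocalization.Away.exists_of_eq (S := B') (φ₁ c) e
    have ha : (c : A) ^ m * a ∈ D := by
      rw [hD]
      simp only [map_mul, map_pow]
      rw [← (hD _).1 hr]
      exact hm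
    refine ⟨n + m, ⟨_, ha⟩, Subtype.ext ?_⟩
    show (z : A') * (algebraMap D D' c : A') ^ (n + m) = (algebraMap D D' ⟨_, ha⟩ : A')
    rw [key, key, pow_add, ← mul_assoc, hn]
    simp only [map_mul, map_pow]
    ring
  · intro a b h
    have h' : algebraMap A A' a = algebraMap A A' b := by
      rw [← key, ← key, h]
    obtain ⟨n, hn⟩ := IsLocalization.Away.exists_of_eq (c : A) h'
    exact ⟨n, Subtype.ext (by simpa using hn)⟩

/-- Two points over the same prime have a common field-valued point. -/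
theorem exists_field {R P Q : Type u} [CommRing R] [Field P] [Field Q] (f : R →+* P) (g : R →+* Q)
    (h : RingHom.ker f = RingHom.ker g) :
    ∃ (K : Type u) (_ : Field K) (a : P →+* K) (b : Q →+* K), a.comp f = b.comp g := by
  let I := RingHom.ker f
  haveI : I.IsPrime := RingHom.ker_isPrime f
  let k := FractionRing (R ⧸ I)
  have hf : Function.Injective (RingHom.kerLift f) := RingHom.kerLift_injective f
  let g' : R ⧸ I →+* Q := Ideal.Quotient.lift I g (fun a ha => by
    have : a ∈ RingHom.ker g := h ▸ ha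
    exact this)
  have hg : Function.Injective g' := by
    rw [injective_iff_map_eq_zero]
    intro a ha
    obtain ⟨a, rfl⟩ := Ideal.Quotient.mk_surjective a
    rw [Ideal.Quotient.eq_zero_iff_mem]
    show a ∈ RingHom.ker f
    rw [h]
    exact ha
  letI : Algebra k P := (IsFractionRing.lift hf).toAlgebra
  letI : Algebra k Q := (IsFractionRing.lift hg).toAlgebra
  haveI : Nontrivial (P ⊗[k] Q) :=
    (Module.FaithfullyFlat.nontrivial_tensorProduct_iff_left k P).2 inferInstance
  obtain ⟨M, hM⟩ := Ideal.exists_maximal (P ⊗[k] Q)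
  haveI := hM
  letI := Ideal.Quotient.field M
  refine ⟨(P ⊗[k] Q) ⧸ M, inferInstance,
    (Ideal.Quotient.mk M).comp (Algebra.TensorProduct.includeLeftRingHom),
    (Ideal.Quotient.mk M).comp (Algebra.TensorProduct.includeRight : Q →ₐ[k] P ⊗[k] Q).toRingHom, ?_⟩
  ext r
  let z : k := algebraMap (R ⧸ I) k (Ideal.Quotient.mk I r)
  have h1 : algebraMap k P z = f r := (IsFractionRing.lift_algebraMap hf _).trans rfl
  have h2 : algebraMap k Q z = g r := (IsFractionRing.lift_algebraMap hg _).trans rfl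
  show Ideal.Quotient.mk M (f r ⊗ₜ 1) = Ideal.Quotient.mk M (1 ⊗ₜ g r)
  rw [← h1, ← h2, Algebra.algebraMap_eq_smul_one, Algebra.algebraMap_eq_smul_one, TensorProduct.smul_tmul]

theorem isCoprime_prod {R : Type u} [CommRing R] (s t : Multiset R) (h : ∀ a ∈ s, ∀ b ∈ t, IsUnit (a - b)) :
    IsCoprime (s.map fun a => X - C a).prod (t.map fun a => X - C a).prod := by
  induction s using Multiset.induction with
  | empty => simpa using isCoprime_one_left
  | cons a s ih =>
    rw [Multiset.map_cons, Multiset.prod_cons]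
    refine IsCoprime.mul_left ?_ (ih fun x hx => h x (Multiset.mem_cons_of_mem hx))
    clear ih
    induction t using Multiset.induction with
    | empty => simpa using isCoprime_one_right
    | cons b t iht =>
      rw [Multiset.map_cons, Multiset.prod_cons]
      exact IsCoprime.mul_right
        (isCoprime_X_sub_C_of_isUnit_sub (h a (Multiset.mem_cons_self _ _) b (Multiset.mem_cons_self _ _)))
        (iht fun x hx y hy => h x hx y (Multiset.mem_cons_of_mem hy))

theorem eq_of_isIdempotentElem {R : Type u} [CommRing R] {a b : R} (ha : a * a = a) (hb : b * b = b)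
    (hd : (a - b) ∈ Ideal.jacobson (⊥ : Ideal R)) : a = b := by
  have h3 : (a - b) * (1 - (a - b) * (a - b)) = 0 := by
    have ha3 : a * a * a = a := by rw [ha, ha]
    have hb3 : b * b * b = b := by rw [hb, hb]
    calc (a - b) * (1 - (a - b) * (a - b))
        = a - b - (a * a * a - 3 * (a * a) * b + 3 * a * (b * b) - b * b * b) := by ring
      _ = 0 := by rw [ha3, hb3, ha, hb]; ring
  have hu : IsUnit (1 - (a - b) * (a - b)) := by
    have := Ideal.mem_jacobson_bot.1 hd (-(a - b))
    convert this using 1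
    ring
  exact sub_eq_zero.1 ((IsUnit.mul_left_eq_zero hu).1 h3)

variable {R₀ A B : Type u} [CommRing R₀] [CommRing A] [CommRing B] [Algebra R₀ A] [Algebra R₀ B]
  [Algebra.IsIntegral R₀ A] [Algebra.IsIntegral R₀ B]

/-- An idempotent after a flat base change which vanishes exactly on the points of the primes containing `a`. -/
theorem exists_idempotent (s : PrimeSpectrum R₀) (a : A) :
    ∃ (R' : Type u) (_ : CommRing R') (_ : IsLocalRing R') (_ : Algebra R₀ R') (_ : Module.Flat R₀ R'),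
      (IsLocalRing.maximalIdeal R').comap (algebraMap R₀ R') = s.asIdeal ∧
      ∃ e : R' ⊗[R₀] A, e * e = e ∧ ∀ (L : Type u) [Field L] (χ : R' ⊗[R₀] A →+* L),
        (∀ r ∈ IsLocalRing.maximalIdeal R', χ (r ⊗ₜ 1) = 0) → (χ (1 ⊗ₜ a) = 0 → χ e = 0) ∧ (χ (1 ⊗ₜ a) ≠ 0 → χ e = 1) := by
  classical
  haveI : Nontrivial R₀ := ⟨0, 1, fun h => s.isPrime.ne_top ((Ideal.eq_top_iff_one _).2 (h ▸ s.asIdeal.zero_mem))⟩
  obtain ⟨P, hPm, hP⟩ := Algebra.IsIntegral.isIntegral (R := R₀) a
  obtain ⟨S, _, _, _, _, _, hS⟩ := hPm.exists_splits_map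
  haveI : Module.FaithfullyFlat R₀ S := inferInstance
  obtain ⟨s₁, hs₁⟩ := PrimeSpectrum.comap_surjective_of_faithfullyFlat (B := S) s
  let R' := Localization.AtPrime s₁.asIdeal
  haveI : Module.Flat R₀ R' := Module.Flat.trans R₀ S R'
  refine ⟨R', inferInstance, inferInstance, inferInstance, inferInstance, ?_, ?_⟩
  · rw [IsScalarTower.algebraMap_eq R₀ S R', ← Ideal.comap_comap, show Ideal.comap (algebraMap S R') (IsLocalRing.maximalIdeal R') = s₁.asIdeal from
      IsLocalization.AtPrime.comap_maximalIdeal R' s₁.asIdeal]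
    exact congrArg PrimeSpectrum.asIdeal hs₁
  obtain ⟨m₀, hm₀⟩ := splits_iff_exists_multiset.1 hS
  rw [(hPm.map _).leadingCoeff, C_1, one_mul] at hm₀
  let m := m₀.map (algebraMap S R')
  have hm : P.map (algebraMap R₀ R') = (m.map fun r => X - C r).prod := by
    rw [IsScalarTower.algebraMap_eq R₀ S R', ← Polynomial.map_map, hm₀, Polynomial.map_multiset_prod,
      Multiset.map_map, Multiset.map_map]
    exact congrArg Multiset.prod (Multiset.map_congr rfl fun r _ => by simp)
  let mI := m.filter fun r => r ∈ IsLocalRing.maximalIdeal R'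
  let mJ := m.filter fun r => ¬ r ∈ IsLocalRing.maximalIdeal R'
  let G := (mI.map fun r => X - C r).prod
  let H := (mJ.map fun r => X - C r).prod
  have hcop : IsCoprime G H := isCoprime_prod _ _ fun r hr t ht => by
    rw [← IsLocalRing.notMem_maximalIdeal]
    intro h
    exact (Multiset.mem_filter.1 ht).2 (by simpa using sub_mem (Multiset.mem_filter.1 hr).2 h)
  obtain ⟨u, v, huv⟩ := hcop
  let ev : R'[X] →+* R' ⊗[R₀] A := Polynomial.eval₂RingHom Algebra.TensorProduct.includeLeftRingHom (1 ⊗ₜ a)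
  have hGH : G * H = P.map (algebraMap R₀ R') := by
    rw [hm, ← Multiset.prod_add, ← Multiset.map_add, Multiset.filter_add_not]
  have h0 : ev G * ev H = 0 := by
    rw [← map_mul, hGH]
    show eval₂ _ _ _ = 0
    rw [eval₂_map]
    have he : (Algebra.TensorProduct.includeLeftRingHom : R' →+* R' ⊗[R₀] A).comp (algebraMap R₀ R') =
        ((Algebra.TensorProduct.includeRight : A →ₐ[R₀] R' ⊗[R₀] A) : A →+* R' ⊗[R₀] A).comp (algebraMap R₀ A) := by
      ext r
      show algebraMap R₀ R' r ⊗ₜ[R₀] (1 : A) = (1 : R') ⊗ₜ[R₀] algebraMap R₀ A r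
      rw [Algebra.algebraMap_eq_smul_one, Algebra.algebraMap_eq_smul_one, TensorProduct.smul_tmul]
    rw [he, show ((1 : R') ⊗ₜ[R₀] a) =
      ((Algebra.TensorProduct.includeRight : A →ₐ[R₀] R' ⊗[R₀] A) : A →+* R' ⊗[R₀] A) a from rfl, ← hom_eval₂, hP,
      map_zero]
  have h1 : ev u * ev G + ev v * ev H = 1 := by rw [← map_mul, ← map_mul, ← map_add, huv, map_one]
  refine ⟨ev u * ev G, ?_, fun L _ χ hχ => ?_⟩
  · calc ev u * ev G * (ev u * ev G) = ev u * ev G * (1 - ev v * ev H) := by rw [← h1]; ring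
      _ = ev u * ev G - ev u * ev v * (ev G * ev H) := by ring
      _ = ev u * ev G := by rw [h0]; ring
  have hG : χ (ev G) = χ (1 ⊗ₜ a) ^ Multiset.card mI := by
    show χ (ev (mI.map fun r => X - C r).prod) = _
    rw [map_multiset_prod, map_multiset_prod, Multiset.map_map, Multiset.map_map]
    rw [Multiset.map_congr rfl (g := fun _ => χ (1 ⊗ₜ a)) fun r hr => by
      show χ (ev (X - C r)) = _
      simp only [ev, coe_eval₂RingHom, eval₂_sub, eval₂_X, eval₂_C, map_sub]
      rw [show (Algebra.TensorProduct.includeLeftRingHom : R' →+* R' ⊗[R₀] A) r = r ⊗ₜ 1 from rfl,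
        hχ r (Multiset.mem_filter.1 hr).2, sub_zero]]
    rw [Multiset.map_const', Multiset.prod_replicate]
  refine ⟨fun ha => ?_, fun ha => ?_⟩
  · have hne : mI ≠ 0 := by
      intro h0'
      have : χ (ev G * ev H) = 0 := by rw [h0, map_zero]
      rw [map_mul, hG, h0'] at this
      simp only [Multiset.card_zero, pow_zero, one_mul] at this
      rw [show ev H = ev (mJ.map fun r => X - C r).prod from rfl, map_multiset_prod, map_multiset_prod,
        Multiset.map_map, Multiset.map_map, Multiset.prod_eq_zero_iff, Multiset.mem_map] at this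
      obtain ⟨r, hr, hr0⟩ := this
      have hr0' : χ (ev (X - C r)) = 0 := hr0
      simp only [ev, coe_eval₂RingHom, eval₂_sub, eval₂_X, eval₂_C, map_sub, ha, zero_sub, neg_eq_zero] at hr0'
      obtain ⟨hrm, hrn⟩ := Multiset.mem_filter.1 hr
      exact ((IsLocalRing.notMem_maximalIdeal.1 hrn).map
        (χ.comp Algebra.TensorProduct.includeLeftRingHom)).ne_zero hr0'
    rw [map_mul, hG, ha, zero_pow (Multiset.card_eq_zero.not.2 hne), mul_zero]
  · have hH : χ (ev H) = 0 := by
      have : χ (ev G) * χ (ev H) = 0 := by rw [← map_mul, h0, map_zero]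
      exact (mul_eq_zero.1 this).resolve_left (by rw [hG]; exact pow_ne_zero _ ha)
    have := congrArg χ h1
    rw [map_add, map_one, map_mul χ (ev v), hH, mul_zero, add_zero] at this
    exact this

/-- Classes of the relation on the primes over a given one have different traces on the equalizer. -/
theorem comap_ne (φ₁ φ₂ : A →ₐ[R₀] B) (s : PrimeSpectrum R₀)
    (hfin : {y : PrimeSpectrum A | y.comap (algebraMap R₀ A) = s}.Finite)
    (E : Set (PrimeSpectrum A)) (hE : ∀ r : PrimeSpectrum B, r.comap (φ₁ : A →+* B) ∈ E ↔ r.comap (φ₂ : A →+* B) ∈ E)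
    (x x' : PrimeSpectrum A) (hx : x.comap (algebraMap R₀ A) = s) (hx' : x'.comap (algebraMap R₀ A) = s)
    (hxE : x ∈ E) (hx'E : x' ∉ E) :
    x.comap (AlgHom.equalizer φ₁ φ₂).val.toRingHom ≠ x'.comap (AlgHom.equalizer φ₁ φ₂).val.toRingHom := by
  classical
  intro hc
  let F := hfin.toFinset
  let I : Ideal A := (F.filter (· ∈ E)).inf fun y => y.asIdeal
  obtain ⟨a, haI, ha⟩ : ∃ a ∈ I, ∀ y ∈ F.filter (· ∉ E), a ∉ y.asIdeal := by
    by_contra h
    push Not at h
    obtain ⟨y', hy', hle⟩ := (Ideal.subset_union_prime (f := fun y : PrimeSpectrum A => y.asIdeal) x' x'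
      (fun y _ _ _ => y.isPrime)).1 (show (I : Set A) ⊆ ⋃ y ∈ (↑(F.filter (· ∉ E)) : Set (PrimeSpectrum A)), ↑y.asIdeal from fun a ha => by
        obtain ⟨y, hy, hay⟩ := h a ha
        exact Set.mem_biUnion hy hay)
    obtain ⟨y, hy, hyle⟩ := (Ideal.IsPrime.inf_le' y'.isPrime).1 hle
    rw [Finset.mem_filter, Set.Finite.mem_toFinset] at hy hy'
    refine hy'.2 ?_
    have : y = y' := PrimeSpectrum.ext (hyle.eq_or_lt.resolve_right fun hlt => by
      have hne := Ideal.comap_lt_comap_of_integral_mem_sdiff (R := R₀) (I := y.asIdeal) (J := y'.asIdeal) hyle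
        ⟨(SetLike.exists_of_lt hlt).choose_spec.1, (SetLike.exists_of_lt hlt).choose_spec.2⟩
        (Algebra.IsIntegral.isIntegral _)
      exact hne.ne ((congrArg PrimeSpectrum.asIdeal (hy.1.trans hy'.1.symm))))
    exact this ▸ hy.2
  have hmem : ∀ y : PrimeSpectrum A, y.comap (algebraMap R₀ A) = s → (a ∈ y.asIdeal ↔ y ∈ E) := by
    intro y hy
    refine ⟨fun hay => ?_, fun hyE => ?_⟩
    · by_contra hyE
      exact ha y (Finset.mem_filter.2 ⟨hfin.mem_toFinset.2 hy, hyE⟩) hay
    · exact (Finset.inf_le (f := fun y : PrimeSpectrum A => y.asIdeal)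
        (Finset.mem_filter.2 ⟨hfin.mem_toFinset.2 hy, hyE⟩) : I ≤ y.asIdeal) haI
  obtain ⟨R', _, _, _, _, hs', e, hee, he⟩ := exists_idempotent s a
  let f₁ := Algebra.TensorProduct.map (AlgHom.id R₀ R') φ₁
  let f₂ := Algebra.TensorProduct.map (AlgHom.id R₀ R') φ₂
  have heq : f₁ e = f₂ e := by
    refine eq_of_isIdempotentElem (by rw [← map_mul, hee]) (by rw [← map_mul, hee]) ?_
    rw [Ideal.jacobson, Submodule.mem_sInf]
    rintro M ⟨-, hM⟩
    haveI := hM
    letI := Ideal.Quotient.field M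
    haveI : Algebra.IsIntegral R' (R' ⊗[R₀] B) := inferInstance
    have hMm : Ideal.comap (algebraMap R' (R' ⊗[R₀] B)) M = IsLocalRing.maximalIdeal R' :=
      IsLocalRing.eq_maximalIdeal (Ideal.isMaximal_comap_of_isIntegral_of_isMaximal M)
    let r : PrimeSpectrum B := ⟨Ideal.comap (Algebra.TensorProduct.includeRight : B →ₐ[R₀] R' ⊗[R₀] B).toRingHom M,
      Ideal.IsPrime.comap _⟩
    have hrs : ∀ φ : A →ₐ[R₀] B, (r.comap (φ : A →+* B)).comap (algebraMap R₀ A) = s := by
      intro φ
      apply PrimeSpectrum.ext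
      rw [← hs', ← hMm]
      ext c
      show Algebra.TensorProduct.includeRight (φ (algebraMap R₀ A c)) ∈ M ↔
        algebraMap R' (R' ⊗[R₀] B) (algebraMap R₀ R' c) ∈ M
      rw [AlgHom.commutes, AlgHom.commutes, IsScalarTower.algebraMap_apply R₀ R' (R' ⊗[R₀] B)]
    have hval : ∀ φ : A →ₐ[R₀] B, ((r.comap (φ : A →+* B)) ∈ E →
        Ideal.Quotient.mk M (Algebra.TensorProduct.map (AlgHom.id R₀ R') φ e) = 0) ∧
        ((r.comap (φ : A →+* B)) ∉ E →
        Ideal.Quotient.mk M (Algebra.TensorProduct.map (AlgHom.id R₀ R') φ e) = 1) := by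
      intro φ
      have hχ : ∀ t ∈ IsLocalRing.maximalIdeal R',
          ((Ideal.Quotient.mk M).comp (Algebra.TensorProduct.map (AlgHom.id R₀ R') φ).toRingHom) (t ⊗ₜ 1) = 0 := by
        intro t ht
        rw [← hMm] at ht
        show Ideal.Quotient.mk M (Algebra.TensorProduct.map (AlgHom.id R₀ R') φ (t ⊗ₜ 1)) = 0
        rw [Algebra.TensorProduct.map_tmul, map_one, Ideal.Quotient.eq_zero_iff_mem]
        exact ht
      obtain ⟨h0, h1⟩ := he _ _ hχ
      have key : ((Ideal.Quotient.mk M).comp (Algebra.TensorProduct.map (AlgHom.id R₀ R') φ).toRingHom) (1 ⊗ₜ a) = 0 ↔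
          r.comap (φ : A →+* B) ∈ E := by
        rw [← hmem _ (hrs φ)]
        show Ideal.Quotient.mk M (Algebra.TensorProduct.map (AlgHom.id R₀ R') φ (1 ⊗ₜ a)) = 0 ↔ _
        rw [Algebra.TensorProduct.map_tmul, map_one, Ideal.Quotient.eq_zero_iff_mem]
        rfl
      exact ⟨fun h => h0 (key.2 h), fun h => h1 fun h' => h (key.1 h')⟩
    rw [← Ideal.Quotient.eq]
    by_cases h : r.comap (φ₁ : A →+* B) ∈ E
    · rw [(hval φ₁).1 h, (hval φ₂).1 ((hE r).1 h)]
    · rw [(hval φ₁).2 h, (hval φ₂).2 fun h' => h ((hE r).2 h')]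
  let D := AlgHom.equalizer φ₁ φ₂
  obtain ⟨η, hη⟩ : e ∈ Set.range (LinearMap.lTensor R' D.val.toLinearMap) := by
    have hex : Function.Exact D.val.toLinearMap (φ₁.toLinearMap - φ₂.toLinearMap) := by
      intro z
      simp only [LinearMap.sub_apply, AlgHom.toLinearMap_apply, sub_eq_zero, Set.mem_range]
      exact ⟨fun h => ⟨⟨z, h⟩, rfl⟩, fun ⟨w, hw⟩ => hw ▸ w.2⟩
    refine (Module.Flat.lTensor_exact R' hex e).1 ?_
    rw [LinearMap.lTensor_sub, LinearMap.sub_apply, sub_eq_zero]
    exact heq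
  let qx := algebraMap A x.asIdeal.ResidueField
  let qx' := algebraMap A x'.asIdeal.ResidueField
  let qR := IsLocalRing.residue R'
  let j : D →+* A := D.val.toRingHom
  have hker : RingHom.ker (qx.comp j) = RingHom.ker (qx'.comp j) := by
    rw [← RingHom.comap_ker, ← RingHom.comap_ker, Ideal.ker_algebraMap_residueField,
      Ideal.ker_algebraMap_residueField]
    exact congrArg PrimeSpectrum.asIdeal hc
  obtain ⟨M₁, _, b, b', hbb⟩ := exists_field (qx.comp j) (qx'.comp j) hker
  have hk0 : RingHom.ker (qR.comp (algebraMap R₀ R')) = RingHom.ker ((b.comp qx).comp (algebraMap R₀ A)) := by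
    rw [← RingHom.comap_ker, IsLocalRing.ker_residue, hs', ← RingHom.comap_ker,
      RingHom.ker_comp_of_injective _ b.injective, Ideal.ker_algebraMap_residueField]
    exact (congrArg PrimeSpectrum.asIdeal hx).symm
  obtain ⟨K, _, cR, cM, hcc⟩ := exists_field (qR.comp (algebraMap R₀ R')) ((b.comp qx).comp (algebraMap R₀ A)) hk0
  letI : Algebra R₀ K := ((cR.comp qR).comp (algebraMap R₀ R')).toAlgebra
  let ρ : R' →ₐ[R₀] K := { cR.comp qR with commutes' := fun _ => rfl }
  let χ : A →ₐ[R₀] K := { (cM.comp b).comp qx with commutes' := fun c => (congr($(hcc) c)).symm }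
  let χ' : A →ₐ[R₀] K :=
    { (cM.comp b').comp qx' with
      commutes' := fun c => by
        show cM (b' (qx' (algebraMap R₀ A c))) = algebraMap R₀ K c
        have e1 : b (qx (j (algebraMap R₀ D c))) = b' (qx' (j (algebraMap R₀ D c))) := congr($(hbb) (algebraMap R₀ D c))
        rw [show j (algebraMap R₀ D c) = algebraMap R₀ A c from rfl] at e1
        rw [← e1]
        exact (congr($(hcc) c)).symm }
  have hχχ : χ.comp D.val = χ'.comp D.val := AlgHom.ext fun d => congrArg cM congr($(hbb) d)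
  let L := fun χ : A →ₐ[R₀] K => Algebra.TensorProduct.lift ρ χ fun _ _ => Commute.all _ _
  have hL : ∀ ψ : A →ₐ[R₀] K, L ψ e =
      Algebra.TensorProduct.lift ρ (ψ.comp D.val) (fun _ _ => Commute.all _ _) η := by
    intro ψ
    rw [← hη]
    show ((L ψ).toLinearMap.comp (LinearMap.lTensor R' D.val.toLinearMap)) η = _
    have h : (L ψ).toLinearMap.comp (LinearMap.lTensor R' D.val.toLinearMap) =
        (Algebra.TensorProduct.lift ρ (ψ.comp D.val) (fun _ _ => Commute.all _ _)).toLinearMap :=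
      TensorProduct.ext' fun t d => by simp [L]
    exact LinearMap.congr_fun h η
  have h0 : ∀ ψ : A →ₐ[R₀] K, ∀ t ∈ IsLocalRing.maximalIdeal R', (L ψ).toRingHom (t ⊗ₜ 1) = 0 := by
    intro ψ t ht
    show L ψ (t ⊗ₜ 1) = 0
    rw [Algebra.TensorProduct.lift_tmul, map_one, mul_one]
    show cR (qR t) = 0
    rw [(IsLocalRing.residue_eq_zero_iff t).2 ht, map_zero]
  have hone : ∀ ψ : A →ₐ[R₀] K, (L ψ).toRingHom (1 ⊗ₜ a) = ψ a := fun ψ => by
    show L ψ (1 ⊗ₜ a) = ψ a
    rw [Algebra.TensorProduct.lift_tmul, map_one, one_mul]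
  have r0 : (L χ).toRingHom e = 0 := (he K _ (h0 χ)).1 (by
    rw [hone]
    show cM (b (qx a)) = 0
    rw [show qx a = 0 from Ideal.algebraMap_residueField_eq_zero.2 ((hmem x hx).2 hxE), map_zero, map_zero])
  have r1 : (L χ').toRingHom e = 1 := (he K _ (h0 χ')).2 (by
    rw [hone]
    show cM (b' (qx' a)) ≠ 0
    simp only [ne_eq, map_eq_zero]
    exact fun h => hx'E ((hmem x' hx').1 (Ideal.algebraMap_residueField_eq_zero.1 h)))
  have : L χ e = L χ' e := by rw [hL, hL]; simp only [hχχ]
  exact zero_ne_one (r0.symm.trans (this.trans r1))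

end CoeqSch
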