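import Mathlib

/-!
# A criterion for a coequalizer in ringed spaces
-/

set_option autoImplicit false
set_option linter.all false
set_option backward.isDefEq.respectTransparency false
set_option backward.isDefEq.respectTransparency.types false
set_option maxHeartbeats 800000

universe u

open CategoryTheory CategoryTheory.Limits AlgebraicGeometry TopologicalSpace Opposite

noncomputable section

namespace CoeqSch

abbrev toRS : Scheme.{u} ⥤ SheafedSpace CommRingCat.{u} :=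
  Scheme.forgetToLocallyRingedSpace ⋙ LocallyRingedSpace.forgetToSheafedSpace

theorem app_injective_coequalizer {A C : PresheafedSpace.{u, u + 1, u} CommRingCat.{u}} (f g : C ⟶ A)
    (U : Opens ↑(colimit (parallelPair f g)).carrier) :
    Function.Injective ((colimit.ι (parallelPair f g) WalkingParallelPair.one).c.app (op U)) := by
  let F := parallelPair f g
  let e := PresheafedSpace.colimitPresheafObjIsoComponentwiseLimit F U
  let D := PresheafedSpace.componentwiseDiagram F U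
  have hπ : ∀ (j : WalkingParallelPair) p, limit.π D (op j) (e.hom p) = (colimit.ι F j).c.app (op U) p := fun j p => by
    rw [← PresheafedSpace.colimitPresheafObjIsoComponentwiseLimit_hom_π F U j]; rfl
  intro p p' h
  refine (ConcreteCategory.bijective_of_isIso e.hom).1 (Concrete.limit_ext D _ _ fun j => ?_)
  obtain ⟨j⟩ := j
  rcases j with _ | _
  · rw [← limit.w D (Quiver.Hom.op WalkingParallelPairHom.left), CommRingCat.comp_apply, CommRingCat.comp_apply]
    exact congrArg _ (((hπ WalkingParallelPair.one p).trans h).trans (hπ WalkingParallelPair.one p').symm)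
  · exact ((hπ WalkingParallelPair.one p).trans h).trans (hπ WalkingParallelPair.one p').symm

theorem app_injective_iso {A P P' : PresheafedSpace.{u, u + 1, u} CommRingCat.{u}} (a : A ⟶ P)
    (h : ∀ U : Opens P.carrier, Function.Injective (a.c.app (op U))) (e : P ⟶ P') [IsIso e] (a' : A ⟶ P')
    (ha : a ≫ e = a') (U : Opens P'.carrier) : Function.Injective (a'.c.app (op U)) := by
  subst ha
  haveI : IsIso e.c := PresheafedSpace.c_isIso_of_iso e
  haveI : IsIso (e.c.app (op U)) := inferInstance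
  exact (h ((Opens.map e.base).obj U)).comp (ConcreteCategory.bijective_of_isIso (e.c.app (op U))).1

theorem app_bijective {A C P Q : PresheafedSpace.{u, u + 1, u} CommRingCat.{u}} (f g : C ⟶ A)
    (a : A ⟶ P) (w : f ≫ a = g ≫ a) (hinj : ∀ U : Opens P.carrier, Function.Injective (a.c.app (op U)))
    (e : P ⟶ Q) (a' : A ⟶ Q) (ha : a ≫ e = a') (w' : f ≫ a' = g ≫ a') (U : Opens Q.carrier)
    (h₁ : Function.Injective (a'.c.app (op U)))
    (h₂ : ∀ s : A.presheaf.obj (op ((Opens.map a'.base).obj U)),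
      f.c.app (op ((Opens.map a'.base).obj U)) s =
        C.presheaf.map (eqToHom (congrArg (fun k : C ⟶ Q => op ((Opens.map k.base).obj U)) w').symm)
          (g.c.app (op ((Opens.map a'.base).obj U)) s) →
      ∃ p : Q.presheaf.obj (op U), a'.c.app (op U) p = s) :
    Function.Bijective (e.c.app (op U)) := by
  subst ha
  refine ⟨fun p p' hp => h₁ ?_, fun r => ?_⟩
  · show a.c.app _ (e.c.app (op U) p) = a.c.app _ (e.c.app (op U) p')
    rw [hp]
  · have hc := ConcreteCategory.congr_hom (PresheafedSpace.congr_app w (op ((Opens.map e.base).obj U))) r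
    obtain ⟨p, hp⟩ := h₂ (a.c.app _ r) hc
    exact ⟨p, hinj ((Opens.map e.base).obj U) hp⟩

variable {R X Y : Scheme.{u}} (p₁ p₂ : R ⟶ X) (q : X ⟶ Y)

/-- The common preimage of an open. -/
abbrev O (V : X.Opens) : R.Opens := p₁ ⁻¹ᵁ V ⊓ p₂ ⁻¹ᵁ V

/-- A section equalized by the two morphisms. -/
def Eqz (V : X.Opens) (a : Γ(X, V)) : Prop :=
  p₁.appLE V (O p₁ p₂ V) inf_le_left a = p₂.appLE V (O p₁ p₂ V) inf_le_right a

theorem eqz_iff {V : X.Opens} {W : R.Opens} (hW : W = O p₁ p₂ V) (e₁ : W ≤ p₁ ⁻¹ᵁ V) (e₂ : W ≤ p₂ ⁻¹ᵁ V)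
    (a : Γ(X, V)) : Eqz p₁ p₂ V a ↔ p₁.appLE V W e₁ a = p₂.appLE V W e₂ a := by
  subst hW
  rfl

theorem eqz_map {V V' : X.Opens} (hV : V = V') (a : Γ(X, V)) :
    Eqz p₁ p₂ V' (X.presheaf.map (eqToHom hV.symm).op a) ↔ Eqz p₁ p₂ V a := by
  subst hV
  simp

theorem eqz_of_app (V : X.Opens) (a : Γ(X, V)) (h : p₂ ⁻¹ᵁ V = p₁ ⁻¹ᵁ V)
    (ha : p₁.app V a = R.presheaf.map (eqToHom (congrArg op h)) (p₂.app V a)) : Eqz p₁ p₂ V a := by
  show p₁.appLE V (O p₁ p₂ V) inf_le_left a = p₂.appLE V (O p₁ p₂ V) inf_le_right a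
  simp only [Scheme.Hom.appLE, CommRingCat.comp_apply]
  rw [ha, ← CommRingCat.comp_apply, ← Functor.map_comp]
  rfl

/-- Sections over an open are the equalized sections upstairs. -/
def SecProp (W : Y.Opens) : Prop :=
  Function.Injective (q.app W) ∧ ∀ a : Γ(X, q ⁻¹ᵁ W), Eqz p₁ p₂ (q ⁻¹ᵁ W) a → ∃ p, q.app W p = a

theorem eqz_app (hw : p₁ ≫ q = p₂ ≫ q) (W : Y.Opens) (d : Γ(Y, W)) : Eqz p₁ p₂ (q ⁻¹ᵁ W) (q.app W d) := by
  show p₁.appLE _ (O p₁ p₂ (q ⁻¹ᵁ W)) inf_le_left _ = p₂.appLE _ (O p₁ p₂ (q ⁻¹ᵁ W)) inf_le_right _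
  rw [← CommRingCat.comp_apply, ← CommRingCat.comp_apply, q.app_eq_appLE, Scheme.Hom.appLE_comp_appLE,
    Scheme.Hom.appLE_comp_appLE]
  congr 3

theorem exists_mul_pow {V : X.Opens} (hV : IsAffineOpen V) (c : Γ(X, V)) {D : X.Opens} (hD : D = X.basicOpen c)
    (hle : D ≤ V) (b : Γ(X, D)) :
    (∃ (n : ℕ) (a : Γ(X, V)), b * X.presheaf.map (homOfLE hle).op c ^ n = X.presheaf.map (homOfLE hle).op a) ∧
      IsUnit (X.presheaf.map (homOfLE hle).op c) ∧
      ∀ a a' : Γ(X, V), X.presheaf.map (homOfLE hle).op a = X.presheaf.map (homOfLE hle).op a' →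
        ∃ n : ℕ, c ^ n * a = c ^ n * a' := by
  subst hD
  haveI := hV.isLocalization_basicOpen c
  exact ⟨IsLocalization.Away.surj c b, IsLocalization.Away.algebraMap_isUnit c,
    fun a a' h => IsLocalization.Away.exists_of_eq c h⟩

theorem secProp_basicOpen {V₀ : Y.Opens} (hY : IsAffineOpen V₀) (hX : IsAffineOpen (q ⁻¹ᵁ V₀))
    (hR : IsAffineOpen (O p₁ p₂ (q ⁻¹ᵁ V₀))) (hw : p₁ ≫ q = p₂ ≫ q) (hS : SecProp p₁ p₂ q V₀) (t : Γ(Y, V₀)) :
    SecProp p₁ p₂ q (Y.basicOpen t) := by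
  have hle : q ⁻¹ᵁ Y.basicOpen t ≤ q ⁻¹ᵁ V₀ := q.preimage_mono (Y.basicOpen_le t)
  have hD := Scheme.preimage_basicOpen q t
  have nat : ∀ d, q.app (Y.basicOpen t) (Y.presheaf.map (homOfLE (Y.basicOpen_le t)).op d) =
      X.presheaf.map (homOfLE hle).op (q.app V₀ d) := fun d => by
    rw [← CommRingCat.comp_apply, q.naturality]
    rfl
  haveI := hY.isLocalization_basicOpen t
  have hu : IsUnit (Y.presheaf.map (homOfLE (Y.basicOpen_le t)).op t) :=
    IsLocalization.Away.algebraMap_isUnit (S := Γ(Y, Y.basicOpen t)) t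
  refine ⟨(injective_iff_map_eq_zero _).2 fun p hp => ?_, fun b hb => ?_⟩
  · obtain ⟨n, d, hn⟩ := IsLocalization.Away.surj t p
    replace hn : p * Y.presheaf.map (homOfLE (Y.basicOpen_le t)).op t ^ n =
        Y.presheaf.map (homOfLE (Y.basicOpen_le t)).op d := hn
    obtain ⟨-, -, h0⟩ := exists_mul_pow hX (q.app V₀ t) hD hle 0
    have h1 : X.presheaf.map (homOfLE hle).op (q.app V₀ d) = X.presheaf.map (homOfLE hle).op 0 := by
      rw [← nat, ← hn, map_mul, hp, zero_mul, map_zero]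
    obtain ⟨m, hm⟩ := h0 _ _ h1
    have h2 : t ^ m * d = 0 := hS.1 (by rw [map_mul, map_pow, hm, mul_zero, map_zero])
    have h3 := congrArg (Y.presheaf.map (homOfLE (Y.basicOpen_le t)).op) h2
    rw [map_mul, map_pow, map_zero, ← hn, (hu.pow m).mul_right_eq_zero, (hu.pow n).mul_left_eq_zero] at h3
    exact h3
  · obtain ⟨⟨n, a, hn⟩, huX, -⟩ := exists_mul_pow hX (q.app V₀ t) hD hle b
    let V := q ⁻¹ᵁ V₀
    let D := q ⁻¹ᵁ Y.basicOpen t
    let c : Γ(X, V) := q.app V₀ t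
    let c₁ := p₁.appLE V (O p₁ p₂ V) inf_le_left c
    have hc : c₁ = p₂.appLE V (O p₁ p₂ V) inf_le_right c := eqz_app p₁ p₂ q hw V₀ t
    let B := R.basicOpen c₁
    have hBV : B ≤ O p₁ p₂ V := R.basicOpen_le c₁
    have hB₁ : B ≤ p₁ ⁻¹ᵁ D := by
      show R.basicOpen (p₁.appLE V (O p₁ p₂ V) inf_le_left c) ≤ _
      rw [Scheme.basicOpen_appLE, ← hD]
      exact inf_le_right
    have hB₂ : B ≤ p₂ ⁻¹ᵁ D := by
      show R.basicOpen c₁ ≤ _
      rw [hc, Scheme.basicOpen_appLE, ← hD]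
      exact inf_le_right
    have hbB : p₁.appLE D B hB₁ b = p₂.appLE D B hB₂ b := by
      have := congrArg (R.presheaf.map (homOfLE (le_inf hB₁ hB₂ : B ≤ O p₁ p₂ D)).op) hb
      rwa [← CommRingCat.comp_apply, ← CommRingCat.comp_apply, Scheme.Hom.appLE_map, Scheme.Hom.appLE_map] at this
    have hres : ∀ (p : R ⟶ X) (e : O p₁ p₂ V ≤ p ⁻¹ᵁ V) (e' : B ≤ p ⁻¹ᵁ D) (z : Γ(X, V)),
        p.appLE D B e' (X.presheaf.map (homOfLE hle).op z) =
          R.presheaf.map (homOfLE hBV).op (p.appLE V (O p₁ p₂ V) e z) := fun p e e' z => by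
      rw [← CommRingCat.comp_apply, ← CommRingCat.comp_apply, Scheme.Hom.map_appLE, Scheme.Hom.appLE_map]
    have hk : R.presheaf.map (homOfLE hBV).op (p₁.appLE V (O p₁ p₂ V) inf_le_left a) =
        R.presheaf.map (homOfLE hBV).op (p₂.appLE V (O p₁ p₂ V) inf_le_right a) := by
      rw [← hres p₁ _ hB₁, ← hres p₂ _ hB₂, ← hn, map_mul, map_mul, map_pow, map_pow, hbB, hres p₁ inf_le_left hB₁,
        hres p₂ inf_le_right hB₂]
      exact congrArg (fun z => _ * R.presheaf.map (homOfLE hBV).op z ^ n) hc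
    haveI := hR.isLocalization_basicOpen c₁
    obtain ⟨m, hm⟩ := IsLocalization.Away.exists_of_eq (S := Γ(R, B)) c₁ hk
    obtain ⟨d, hd⟩ := hS.2 (c ^ m * a) (by
      show p₁.appLE V (O p₁ p₂ V) inf_le_left _ = p₂.appLE V (O p₁ p₂ V) inf_le_right _
      rw [map_mul, map_mul, map_pow, map_pow, ← hc]
      exact hm)
    obtain ⟨v, hv⟩ := hu.exists_right_inv
    refine ⟨Y.presheaf.map (homOfLE (Y.basicOpen_le t)).op d * v ^ (n + m), (huX.pow (n + m)).mul_right_cancel ?_⟩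
    conv_lhs => rw [← nat]
    rw [← map_pow, ← map_mul, mul_assoc, ← mul_pow, mul_comm v, hv, one_pow, mul_one, nat, hd, map_mul, map_pow,
      ← hn, pow_add]
    show _ = _
    ring

end CoeqSch
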