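import Mathlib
import Groth.Agent.CoeqSchLib.Alg

/-!
# The relative spectrum of an equalizer

For two morphisms `p₁ p₂ : R ⟶ X` over `S` with `R` and `X` qcqs over `S`, the scheme over `S` whose algebra is the
equalizer of the pushed forward structure sheaves.
-/

set_option autoImplicit false
set_option linter.all false
set_option backward.isDefEq.respectTransparency false
set_option backward.isDefEq.respectTransparency.types false
set_option maxHeartbeats 400000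

universe u

open CategoryTheory CategoryTheory.Limits AlgebraicGeometry
open AlgebraicGeometry.Scheme.AffineZariskiSite

noncomputable section

namespace CoeqSch

structure Setup (S : Scheme.{u}) where
  X : Scheme.{u}
  R : Scheme.{u}
  f : X ⟶ S
  g : R ⟶ S
  p₁ : R ⟶ X
  p₂ : R ⟶ X
  w₁ : p₁ ≫ f = g
  w₂ : p₂ ≫ f = g
  [intf : IsIntegralHom f]
  [intg : IsIntegralHom g]

attribute [instance] Setup.intf Setup.intg

variable {S : Scheme.{u}} (σ : Setup S)

theorem le₁ (U : S.Opens) : σ.g ⁻¹ᵁ U ≤ σ.p₁ ⁻¹ᵁ σ.f ⁻¹ᵁ U := by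
  rw [← Scheme.Hom.comp_preimage, σ.w₁]

theorem le₂ (U : S.Opens) : σ.g ⁻¹ᵁ U ≤ σ.p₂ ⁻¹ᵁ σ.f ⁻¹ᵁ U := by
  rw [← Scheme.Hom.comp_preimage, σ.w₂]

def φ₁ (U : S.Opens) : Γ(σ.X, σ.f ⁻¹ᵁ U) ⟶ Γ(σ.R, σ.g ⁻¹ᵁ U) := σ.p₁.appLE _ _ (le₁ σ U)

def φ₂ (U : S.Opens) : Γ(σ.X, σ.f ⁻¹ᵁ U) ⟶ Γ(σ.R, σ.g ⁻¹ᵁ U) := σ.p₂.appLE _ _ (le₂ σ U)

theorem φ₁_map {U V : S.Opens} (h : U ≤ V) :
    σ.X.presheaf.map (homOfLE (σ.f.preimage_mono h)).op ≫ φ₁ σ U =
      φ₁ σ V ≫ σ.R.presheaf.map (homOfLE (σ.g.preimage_mono h)).op := by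
  simp [φ₁, Scheme.Hom.map_appLE, Scheme.Hom.appLE_map]

theorem φ₂_map {U V : S.Opens} (h : U ≤ V) :
    σ.X.presheaf.map (homOfLE (σ.f.preimage_mono h)).op ≫ φ₂ σ U =
      φ₂ σ V ≫ σ.R.presheaf.map (homOfLE (σ.g.preimage_mono h)).op := by
  simp [φ₂, Scheme.Hom.map_appLE, Scheme.Hom.appLE_map]

theorem app_φ₁ (U : S.Opens) : σ.f.app U ≫ φ₁ σ U = σ.g.app U := by
  obtain ⟨X, R, f, g, p₁, p₂, w₁, w₂⟩ := σ
  subst w₁
  dsimp only [φ₁]
  rw [Scheme.Hom.app_eq_appLE, Scheme.Hom.appLE_comp_appLE, Scheme.Hom.app_eq_appLE]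

theorem app_φ₂ (U : S.Opens) : σ.f.app U ≫ φ₂ σ U = σ.g.app U := by
  obtain ⟨X, R, f, g, p₁, p₂, w₁, w₂⟩ := σ
  subst w₂
  dsimp only [φ₂]
  rw [Scheme.Hom.app_eq_appLE, Scheme.Hom.appLE_comp_appLE, Scheme.Hom.app_eq_appLE]

/-- The sections equalized by the two morphisms. -/
def sub (U : S.Opens) : Subring Γ(σ.X, σ.f ⁻¹ᵁ U) where
  carrier := {a | φ₁ σ U a = φ₂ σ U a}
  mul_mem' {a b} ha hb := by simp only [Set.mem_setOf_eq] at *; rw [map_mul, map_mul, ha, hb]
  one_mem' := by simp only [Set.mem_setOf_eq, map_one]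
  add_mem' {a b} ha hb := by simp only [Set.mem_setOf_eq] at *; rw [map_add, map_add, ha, hb]
  zero_mem' := by simp only [Set.mem_setOf_eq, map_zero]
  neg_mem' {a} ha := by simp only [Set.mem_setOf_eq] at *; rw [map_neg, map_neg, ha]

/-- The presheaf of equalizers. -/
def diagram : S.Opensᵒᵖ ⥤ CommRingCat.{u} where
  obj U := .of (sub σ U.unop)
  map {V U} i := CommRingCat.ofHom
    ((σ.X.presheaf.map (homOfLE (σ.f.preimage_mono i.unop.le)).op).hom.restrict _ _ fun x hx => by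
      show φ₁ σ U.unop _ = φ₂ σ U.unop _
      have h1 := congr($(φ₁_map σ i.unop.le) x)
      have h2 := congr($(φ₂_map σ i.unop.le) x)
      simp only [CommRingCat.comp_apply] at h1 h2
      exact h1.trans ((congrArg _ hx).trans h2.symm))
  map_id U := by simp; rfl
  map_comp i j := by
    simp only [← CommRingCat.ofHom_comp]
    rw [← homOfLE_comp (σ.f.preimage_mono j.unop.le) (σ.f.preimage_mono i.unop.le), op_comp]
    simp_rw [σ.X.presheaf.map_comp]
    rfl

theorem app_mem (U : S.Opens) (x : Γ(S, U)) : σ.f.app U x ∈ sub σ U := by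
  show φ₁ σ U (σ.f.app U x) = φ₂ σ U (σ.f.app U x)
  have h1 := congr($(app_φ₁ σ U) x)
  have h2 := congr($(app_φ₂ σ U) x)
  simp only [CommRingCat.comp_apply] at h1 h2
  exact h1.trans h2.symm

/-- The structure map. -/
def diagramMap : S.presheaf ⟶ diagram σ where
  app U := CommRingCat.ofHom ((σ.f.app U.unop).hom.codRestrict (sub σ U.unop) (app_mem σ U.unop))
  naturality {U V} i := by ext x; exact Subtype.ext congr($(σ.f.naturality i) x)

theorem isLocalization_X (U : S.affineOpens) (r : Γ(S, U.1)) :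
    letI := (σ.X.presheaf.map (homOfLE (σ.f.preimage_mono (S.basicOpen_le r))).op).hom.toAlgebra
    IsLocalization.Away (σ.f.app U.1 r) Γ(σ.X, σ.f ⁻¹ᵁ S.basicOpen r) := by
  let inst : Algebra Γ(σ.X, σ.f ⁻¹ᵁ U.1) Γ(σ.X, σ.X.basicOpen (σ.f.app _ r)) :=
    (σ.X.presheaf.map (homOfLE (σ.X.basicOpen_le _)).op).hom.toAlgebra
  dsimp +instances
  rw! (castMode := .all) [σ.f.preimage_basicOpen r]
  exact isLocalization_basicOpen_of_qcqs (σ.f.isCompact_preimage U.2.isCompact)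
    (σ.f.isQuasiSeparated_preimage U.2.isQuasiSeparated) (σ.f.app _ r)

theorem isLocalization_R (U : S.affineOpens) (r : Γ(S, U.1)) :
    letI := (σ.R.presheaf.map (homOfLE (σ.g.preimage_mono (S.basicOpen_le r))).op).hom.toAlgebra
    IsLocalization.Away (σ.g.app U.1 r) Γ(σ.R, σ.g ⁻¹ᵁ S.basicOpen r) := by
  let inst : Algebra Γ(σ.R, σ.g ⁻¹ᵁ U.1) Γ(σ.R, σ.R.basicOpen (σ.g.app _ r)) :=
    (σ.R.presheaf.map (homOfLE (σ.R.basicOpen_le _)).op).hom.toAlgebra
  dsimp +instances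
  rw! (castMode := .all) [σ.g.preimage_basicOpen r]
  exact isLocalization_basicOpen_of_qcqs (σ.g.isCompact_preimage U.2.isCompact)
    (σ.g.isQuasiSeparated_preimage U.2.isQuasiSeparated) (σ.g.app _ r)

theorem φ₁_app (U : S.Opens) (r : Γ(S, U)) : φ₁ σ U (σ.f.app U r) = σ.g.app U r := by
  have := congr($(app_φ₁ σ U) r)
  simpa only [CommRingCat.comp_apply] using this

theorem isLocalization_sub (U : S.affineOpens) (r : Γ(S, U.1)) :
    letI := ((diagram σ).map (homOfLE (S.basicOpen_le r)).op).hom.toAlgebra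
    IsLocalization.Away ((diagramMap σ).app (.op U.1) r) ((diagram σ).obj (.op (S.basicOpen r))) := by
  have hX := isLocalization_X σ U r
  have hR : letI := (σ.R.presheaf.map (homOfLE (σ.g.preimage_mono (S.basicOpen_le r))).op).hom.toAlgebra
      IsLocalization.Away (φ₁ σ U.1 (σ.f.app U.1 r)) Γ(σ.R, σ.g ⁻¹ᵁ S.basicOpen r) := by
    rw [φ₁_app]
    exact isLocalization_R σ U r
  let c : sub σ U.1 := ⟨σ.f.app U.1 r, app_mem σ U.1 r⟩
  let ι : sub σ U.1 →+* sub σ (S.basicOpen r) := ((diagram σ).map (homOfLE (S.basicOpen_le r)).op).hom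
  exact CoeqSch.isLocalization_eqLocus (φ₁ σ U.1).hom (φ₂ σ U.1).hom (φ₁ σ (S.basicOpen r)).hom
    (φ₂ σ (S.basicOpen r)).hom (σ.X.presheaf.map (homOfLE (σ.f.preimage_mono (S.basicOpen_le r))).op).hom
    (σ.R.presheaf.map (homOfLE (σ.g.preimage_mono (S.basicOpen_le r))).op).hom
    congr($(φ₁_map σ (S.basicOpen_le r)).hom) congr($(φ₂_map σ (S.basicOpen_le r)).hom)
    (sub σ U.1) (fun _ => Iff.rfl) (sub σ (S.basicOpen r)) (fun _ => Iff.rfl) c hX hR ι (fun _ => rfl)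

theorem coequifibered : ((toOpensFunctor S).op.whiskerLeft (diagramMap σ)).Coequifibered := by
  refine coequifibered_iff_forall_isLocalizationAway.mpr fun U r ↦ ?_
  exact isLocalization_sub σ U r

/-- The gluing data. -/
def glueData := relativeGluingData (coequifibered σ)

instance : ((glueData σ).functor ⋙ Scheme.forget).IsLocallyDirected :=
  Scheme.Cover.RelativeGluingData.instIsLocallyDirectedI₀CompFunctorForgetOfIsThin ..

/-- The relative spectrum of the equalizer. -/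
def Y : Scheme.{u} := (glueData σ).glued

/-- Its affine charts. -/
def cover : (Y σ).OpenCover := (glueData σ).cover

set_option backward.defeqAttrib.useBackward true in
/-- The projection. -/
def q : σ.X ⟶ Y σ :=
  Scheme.OpenCover.glueMorphismsOfLocallyDirected
    ((Scheme.AffineZariskiSite.directedCover S).pullback₁ σ.f)
    (fun U ↦ (pullbackRestrictIsoRestrict σ.f _).hom ≫
      (σ.f ⁻¹ᵁ U.1).toSpecΓ ≫ Spec.map (CommRingCat.ofHom (sub σ U.1).subtype) ≫ (cover σ).f U) fun {U V : S.AffineZariskiSite} i ↦ by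
  have : (pullbackRestrictIsoRestrict σ.f U.1).inv ≫
      Scheme.Cover.trans ((Scheme.AffineZariskiSite.directedCover S).pullback₁ σ.f) i ≫
      (pullbackRestrictIsoRestrict σ.f V.1).hom = σ.X.homOfLE
        (σ.f.preimage_mono (toOpens_mono i.1.1)) := by
    rw [← cancel_mono (Scheme.Opens.ι _)]
    simp +instances [Scheme.Cover.trans, Scheme.Cover.locallyDirectedPullbackCover]
  rw [← Iso.inv_comp_eq, reassoc_of% this, ← Scheme.Opens.toSpecΓ_SpecMap_presheaf_map_assoc,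
    ← Spec.map_comp_assoc]
  dsimp [cover]
  rw [← colimit.w (glueData σ).functor i]
  dsimp [glueData, relativeGluingData]
  rw [← Spec.map_comp_assoc]
  rfl

set_option backward.defeqAttrib.useBackward true in
@[reassoc]
theorem ι_q (U : S.affineOpens) :
    (σ.f ⁻¹ᵁ U.1).ι ≫ q σ = (σ.f ⁻¹ᵁ U.1).toSpecΓ ≫
      Spec.map (CommRingCat.ofHom (sub σ U.1).subtype) ≫ (cover σ).f U := by
  rw [← cancel_epi (pullbackRestrictIsoRestrict σ.f U.1).hom, ← Category.assoc]
  trans ((Scheme.AffineZariskiSite.directedCover S).pullback₁ σ.f).f U ≫ q σ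
  · congr 1; simp
  delta q
  generalize_proofs _ _ _ _ H
  exact Scheme.OpenCover.map_glueMorphismsOfLocallyDirected _ _ H _

/-- The structure morphism. -/
def h : Y σ ⟶ S := (glueData σ).toBase

@[reassoc]
theorem ι_h (U : S.affineOpens) :
    (cover σ).f U ≫ h σ = Spec.map ((diagramMap σ).app (.op U.1)) ≫ U.2.fromSpec :=
  colimit.ι_desc _ _

theorem h_preimage (U : S.affineOpens) : h σ ⁻¹ᵁ U = ((cover σ).f U).opensRange := by
  simpa using! (glueData σ).toBase_preimage_eq_opensRange_ι U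

@[reassoc (attr := simp)]
theorem q_h : q σ ≫ h σ = σ.f := by
  refine Scheme.Cover.hom_ext (σ.X.openCoverOfIsOpenCover _
    (.comap (iSup_affineOpens_eq_top S) σ.f.base.1)) _ _ fun U ↦ ?_
  refine (ι_q_assoc σ _ _).trans ?_
  rw [ι_h, ← Spec.map_comp_assoc]
  change (σ.f ⁻¹ᵁ U.1).toSpecΓ ≫ Spec.map (σ.f.app _) ≫ U.2.fromSpec = (σ.f ⁻¹ᵁ U.1).ι ≫ _
  simp

instance isIntegralHom_h : IsIntegralHom (h σ) := by
  rw [IsZariskiLocalAtTarget.iff_of_iSup_eq_top (P := @IsIntegralHom) _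
    (iSup_affineOpens_eq_top _)]
  intro U
  let e := IsOpenImmersion.isoOfRangeEq (h σ ⁻¹ᵁ U).ι ((cover σ).f U)
      (by simpa using congr($(h_preimage σ U).1))
  rw [← MorphismProperty.cancel_left_of_respectsIso @IsIntegralHom e.inv,
    ← MorphismProperty.cancel_right_of_respectsIso @IsIntegralHom _ U.2.isoSpec.hom]
  have : ((diagramMap σ).app (.op U.1)).hom.IsIntegral := by
    intro a
    have hi : (σ.f.app U.1).hom.IsIntegral := IsIntegralHom.isIntegral_app σ.f U.1 U.2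
    obtain ⟨P, hP, hP0⟩ := hi a.1
    refine ⟨P, hP, Subtype.ext ?_⟩
    show (sub σ U.1).subtype (Polynomial.eval₂ _ a P) = 0
    rw [Polynomial.hom_eval₂]
    exact hP0
  convert! IsIntegralHom.SpecMap_iff.mpr this
  rw [← cancel_mono U.2.fromSpec]
  simp [IsAffineOpen.isoSpec_hom, e, ι_h]

instance isIntegralHom_q : IsIntegralHom (q σ) := by
  haveI : IsIntegralHom (q σ ≫ h σ) := by rw [q_h]; infer_instance
  exact MorphismProperty.of_postcomp (W := @IsIntegralHom) (W' := @IsSeparated) (q σ) (h σ) inferInstance ‹_›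

/-- Sections over the preimage of an affine open. -/
def objIso {U : S.Opens} (hU : IsAffineOpen U) : Γ(Y σ, h σ ⁻¹ᵁ U) ≅ .of (sub σ U) :=
  (Y σ).presheaf.mapIso (eqToIso (by simpa using! (h_preimage σ ⟨U, hU⟩).symm)).op ≪≫
  ((cover σ).f ⟨U, hU⟩).appIso ⊤ ≪≫ Scheme.ΓSpecIso _

theorem q_app_preimage (U : S.affineOpens) :
    (q σ).app (h σ ⁻¹ᵁ ↑U) = (objIso σ U.2).hom ≫
      CommRingCat.ofHom (sub σ U.1).subtype ≫
      σ.X.presheaf.map (eqToHom (by simp [← Scheme.Hom.comp_preimage])).op := by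
  dsimp [objIso]
  change _ = (Y σ).presheaf.map (eqToHom (by simp [h_preimage])).op ≫
      (((cover σ).f U).appIso _).hom ≫
      (Scheme.ΓSpecIso _).hom ≫
      CommRingCat.ofHom (sub σ U.1).subtype ≫
      σ.X.presheaf.map (eqToHom (by simp [← Scheme.Hom.comp_preimage])).op
  have H : q σ ⁻¹ᵁ h σ ⁻¹ᵁ U =
      (σ.f ⁻¹ᵁ U).ι ''ᵁ (((σ.f ⁻¹ᵁ U).ι ≫ q σ) ⁻¹ᵁ h σ ⁻¹ᵁ U) := by
    simp [← Scheme.Hom.comp_preimage]
  convert! congr($(Scheme.Hom.congr_app (ι_q σ U) (h σ ⁻¹ᵁ U)) ≫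
    σ.X.presheaf.map (eqToHom H).op) using 1
  · simp [Scheme.Hom.app_eq_appLE]
  dsimp
  simp only [eqToHom_op, Scheme.Hom.appIso_hom, Category.assoc, Scheme.Hom.naturality_assoc, eqToHom_unop,
    ← Functor.map_comp_assoc, eqToHom_map (TopologicalSpace.Opens.map _), eqToHom_trans]
  congr 1
  rw [← IsIso.eq_inv_comp, ← Functor.map_inv, inv_eqToHom]
  simp [← Functor.map_comp, Scheme.Opens.toSpecΓ_appTop,
    Scheme.ΓSpecIso_naturality_assoc (CommRingCat.ofHom _)]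
  rfl

end CoeqSch
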