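import Mathlib
import Groth.Agent.CoeqSchLib.Glue
import Groth.Agent.CoeqSchLib.Colim

/-!
# The coequalizer of two integral schemes with finite fibres
-/

set_option autoImplicit false
set_option linter.all false
set_option backward.isDefEq.respectTransparency false
set_option backward.isDefEq.respectTransparency.types false
set_option maxHeartbeats 800000

universe u

open CategoryTheory CategoryTheory.Limits AlgebraicGeometry TopologicalSpace Opposite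

noncomputable section

namespace CoeqSch

variable {S : Scheme.{u}} (σ : Setup S)

theorem w : σ.p₁ ≫ q σ = σ.p₂ ≫ q σ := by
  refine Scheme.Cover.hom_ext (σ.R.openCoverOfIsOpenCover _
    (.comap (iSup_affineOpens_eq_top S) σ.g.base.1)) _ _ fun U ↦ ?_
  show (σ.g ⁻¹ᵁ U.1).ι ≫ σ.p₁ ≫ q σ = (σ.g ⁻¹ᵁ U.1).ι ≫ σ.p₂ ≫ q σ
  rw [← Scheme.Hom.resLE_comp_ι_assoc σ.p₁ (le₁ σ U.1), ← Scheme.Hom.resLE_comp_ι_assoc σ.p₂ (le₂ σ U.1), ι_q,
    ← Scheme.Opens.toSpecΓ_SpecMap_appLE_assoc, ← Scheme.Opens.toSpecΓ_SpecMap_appLE_assoc,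
    ← Spec.map_comp_assoc, ← Spec.map_comp_assoc]
  have : CommRingCat.ofHom (sub σ U.1).subtype ≫ φ₁ σ U.1 = CommRingCat.ofHom (sub σ U.1).subtype ≫ φ₂ σ U.1 := by
    ext x
    exact x.2
  exact congrArg (fun k => (σ.g ⁻¹ᵁ U.1).toSpecΓ ≫ Spec.map k ≫ (cover σ).f U) this

theorem fromSpec_q (U : S.affineOpens) :
    (U.2.preimage σ.f).fromSpec ≫ q σ = Spec.map (CommRingCat.ofHom (sub σ U.1).subtype) ≫ (cover σ).f U := by
  rw [← IsAffineOpen.isoSpec_inv_ι, Category.assoc, ι_q, IsAffineOpen.isoSpec_inv_toSpecΓ_assoc]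

theorem exists_fromSpec {A : Scheme.{u}} {U : A.Opens} (hU : IsAffineOpen U) {x : A} (hx : x ∈ U) :
    ∃ P : PrimeSpectrum Γ(A, U), hU.fromSpec P = x := by
  have : x ∈ Set.range hU.fromSpec := by rw [hU.range_fromSpec]; exact hx
  exact this

theorem subtype_isIntegral (U : S.affineOpens) : (sub σ U.1).subtype.IsIntegral :=
  RingHom.IsIntegral.tower_top ((diagramMap σ).app (.op U.1)).hom _ (IsIntegralHom.isIntegral_app σ.f U.1 U.2)

theorem q_surjective : Function.Surjective (q σ) := by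
  intro y
  obtain ⟨_, ⟨U, hU, rfl⟩, hyU, -⟩ :=
    S.isBasis_affineOpens.exists_subset_of_mem_open (Set.mem_univ (h σ y)) isOpen_univ
  have : y ∈ ((cover σ).f ⟨U, hU⟩).opensRange := h_preimage σ ⟨U, hU⟩ ▸ hyU
  obtain ⟨P, rfl⟩ := this
  obtain ⟨Q, hQ⟩ := (subtype_isIntegral σ ⟨U, hU⟩).comap_surjective Subtype.coe_injective P
  refine ⟨(hU.preimage σ.f).fromSpec Q, ?_⟩
  rw [← Scheme.Hom.comp_apply, fromSpec_q σ ⟨U, hU⟩, Scheme.Hom.comp_apply]
  exact congrArg ((cover σ).f ⟨U, hU⟩) hQ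

theorem fromSpec_appLE {A B : Scheme.{u}} (p : A ⟶ B) {U : B.Opens} (hU : IsAffineOpen U) {V : A.Opens}
    (hV : IsAffineOpen V) (e : V ≤ p ⁻¹ᵁ U) (P : PrimeSpectrum Γ(A, V)) :
    p (hV.fromSpec P) = hU.fromSpec (PrimeSpectrum.comap (p.appLE U V e).hom P) := by
  have h := IsAffineOpen.SpecMap_appLE_fromSpec p hU hV e
  rw [← Scheme.Hom.comp_apply, ← h]
  rfl

/-- The relation of being in the same orbit. -/
def rel (x x' : σ.X) : Prop := ∃ r : σ.R, σ.p₁ r = x ∧ σ.p₂ r = x'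

theorem rel_of_q_eq (hfin : ∀ s : S, (σ.f ⁻¹' {s}).Finite) (heqv : Equivalence (rel σ)) (x x' : σ.X)
    (hxx : q σ x = q σ x') : rel σ x x' := by
  have hfx : σ.f x = σ.f x' := by
    rw [← q_h σ, Scheme.Hom.comp_apply, Scheme.Hom.comp_apply, hxx]
  obtain ⟨_, ⟨U, hU, rfl⟩, hsU, -⟩ :=
    S.isBasis_affineOpens.exists_subset_of_mem_open (Set.mem_univ (σ.f x)) isOpen_univ
  let hV := hU.preimage σ.f
  let hW := hU.preimage σ.g
  obtain ⟨P, rfl⟩ := exists_fromSpec hV (show x ∈ σ.f ⁻¹ᵁ U from hsU)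
  obtain ⟨P', rfl⟩ := exists_fromSpec hV (show x' ∈ σ.f ⁻¹ᵁ U from (hfx ▸ hsU : σ.f x' ∈ U))
  letI := (σ.f.app U).hom.toAlgebra
  letI := (σ.g.app U).hom.toAlgebra
  haveI : Algebra.IsIntegral Γ(S, U) Γ(σ.X, σ.f ⁻¹ᵁ U) := ⟨IsIntegralHom.isIntegral_app σ.f U hU⟩
  haveI : Algebra.IsIntegral Γ(S, U) Γ(σ.R, σ.g ⁻¹ᵁ U) := ⟨IsIntegralHom.isIntegral_app σ.g U hU⟩
  let a₁ : Γ(σ.X, σ.f ⁻¹ᵁ U) →ₐ[Γ(S, U)] Γ(σ.R, σ.g ⁻¹ᵁ U) :=
    { (φ₁ σ U).hom with commutes' := fun c => congr($(app_φ₁ σ U).hom c) }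
  let a₂ : Γ(σ.X, σ.f ⁻¹ᵁ U) →ₐ[Γ(S, U)] Γ(σ.R, σ.g ⁻¹ᵁ U) :=
    { (φ₂ σ U).hom with commutes' := fun c => congr($(app_φ₂ σ U).hom c) }
  have hf : ∀ Q : PrimeSpectrum Γ(σ.X, σ.f ⁻¹ᵁ U),
      σ.f (hV.fromSpec Q) = hU.fromSpec (PrimeSpectrum.comap (algebraMap Γ(S, U) Γ(σ.X, σ.f ⁻¹ᵁ U)) Q) := fun Q => by
    rw [fromSpec_appLE σ.f hU hV le_rfl, ← Scheme.Hom.app_eq_appLE]
    rfl
  let s := PrimeSpectrum.comap (algebraMap Γ(S, U) Γ(σ.X, σ.f ⁻¹ᵁ U)) P
  have hs : PrimeSpectrum.comap (algebraMap Γ(S, U) Γ(σ.X, σ.f ⁻¹ᵁ U)) P' = s :=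
    hU.fromSpec.isOpenEmbedding.injective ((hf P').symm.trans (hfx.symm.trans (hf P)))
  by_contra hne
  refine CoeqSch.comap_ne a₁ a₂ s ?_ {Q | rel σ (hV.fromSpec P) (hV.fromSpec Q)} ?_ P P' rfl hs (heqv.refl _) hne ?_
  · refine ((hfin (hU.fromSpec s)).preimage (hV.fromSpec.isOpenEmbedding.injective.injOn)).subset fun Q hQ => ?_
    show σ.f (hV.fromSpec Q) = hU.fromSpec s
    rw [hf, show PrimeSpectrum.comap _ Q = s from hQ]
  · intro r
    have e : rel σ (hV.fromSpec (PrimeSpectrum.comap (φ₁ σ U).hom r))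
        (hV.fromSpec (PrimeSpectrum.comap (φ₂ σ U).hom r)) :=
      ⟨hW.fromSpec r, fromSpec_appLE σ.p₁ hV hW (le₁ σ U) r, fromSpec_appLE σ.p₂ hV hW (le₂ σ U) r⟩
    exact ⟨fun h => heqv.trans h e, fun h => heqv.trans h (heqv.symm e)⟩
  · have hc : PrimeSpectrum.comap (sub σ U).subtype P = PrimeSpectrum.comap (sub σ U).subtype P' := by
      apply ((cover σ).f ⟨U, hU⟩).isOpenEmbedding.injective
      have h1 := congr($(fromSpec_q σ ⟨U, hU⟩) P)
      have h2 := congr($(fromSpec_q σ ⟨U, hU⟩) P')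
      simp only [Scheme.Hom.comp_apply] at h1 h2
      exact h1.symm.trans (hxx.trans h2)
    refine PrimeSpectrum.ext (Ideal.ext fun d => ?_)
    exact Ideal.ext_iff.1 (congrArg PrimeSpectrum.asIdeal hc) ⟨d.1, d.2⟩

theorem isQuotientMap_q : Topology.IsQuotientMap (q σ) :=
  (q σ).isClosedMap.isQuotientMap (q σ).continuous (q_surjective σ)

theorem preimage_O (U : S.Opens) : σ.g ⁻¹ᵁ U = O σ.p₁ σ.p₂ (σ.f ⁻¹ᵁ U) := by
  show _ = σ.p₁ ⁻¹ᵁ σ.f ⁻¹ᵁ U ⊓ σ.p₂ ⁻¹ᵁ σ.f ⁻¹ᵁ U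
  rw [← Scheme.Hom.comp_preimage, ← Scheme.Hom.comp_preimage, σ.w₁, σ.w₂, inf_idem]

theorem preimage_q (U : S.Opens) : q σ ⁻¹ᵁ h σ ⁻¹ᵁ U = σ.f ⁻¹ᵁ U := by
  rw [← Scheme.Hom.comp_preimage, q_h]

theorem secProp_affine (U : S.affineOpens) : SecProp σ.p₁ σ.p₂ (q σ) (h σ ⁻¹ᵁ U.1) := by
  have hval : ∀ p, (q σ).app (h σ ⁻¹ᵁ U.1) p =
      σ.X.presheaf.map (eqToHom (preimage_q σ U.1)).op ((objIso σ U.2).hom p).1 := fun p => by
    rw [q_app_preimage]
    rfl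
  have hbij := ConcreteCategory.bijective_of_isIso (σ.X.presheaf.map (eqToHom (preimage_q σ U.1)).op)
  refine ⟨fun p p' hp => ?_, fun a ha => ?_⟩
  · rw [hval, hval] at hp
    exact (ConcreteCategory.bijective_of_isIso (objIso σ U.2).hom).1 (Subtype.ext (hbij.1 hp))
  · obtain ⟨a, rfl⟩ := hbij.2 a
    rw [eqz_map (hV := (preimage_q σ U.1).symm), eqz_iff σ.p₁ σ.p₂ (preimage_O σ U.1) (le₁ σ U.1) (le₂ σ U.1)] at ha
    obtain ⟨p, hp⟩ := (ConcreteCategory.bijective_of_isIso (objIso σ U.2).hom).2 ⟨a, ha⟩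
    exact ⟨p, by rw [hval, hp]⟩

/-- The opens of the basis. -/
def basis : (Σ U : S.affineOpens, Γ(Y σ, h σ ⁻¹ᵁ U.1)) → (Y σ).Opens := fun i => (Y σ).basicOpen i.2

theorem secProp_basis (i) : SecProp σ.p₁ σ.p₂ (q σ) (basis σ i) := by
  refine secProp_basicOpen σ.p₁ σ.p₂ (q σ) (i.1.2.preimage (h σ)) ?_ ?_ (w σ) (secProp_affine σ i.1) i.2
  · rw [preimage_q]
    exact i.1.2.preimage σ.f
  · rw [preimage_q, ← preimage_O]
    exact i.1.2.preimage σ.g

theorem isBasis_basis : Opens.IsBasis (Set.range (basis σ)) := by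
  refine Opens.isBasis_iff_nbhd.mpr fun {W y} hy => ?_
  obtain ⟨_, ⟨U, hU, rfl⟩, hyU, -⟩ :=
    S.isBasis_affineOpens.exists_subset_of_mem_open (Set.mem_univ (h σ y)) isOpen_univ
  obtain ⟨t, ht, hyt⟩ := (hU.preimage (h σ)).exists_basicOpen_le ⟨y, hy⟩ hyU
  exact ⟨_, ⟨⟨⟨U, hU⟩, t⟩, rfl⟩, hyt, ht⟩

theorem isColimit (hfin : ∀ s : S, (σ.f ⁻¹' {s}).Finite) (heqv : Equivalence (rel σ))
    (hw : toRS.map σ.p₁ ≫ toRS.map (q σ) = toRS.map σ.p₂ ≫ toRS.map (q σ)) :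
    Nonempty (IsColimit (Cofork.ofπ (toRS.map (q σ)) hw)) := by
  let a := toRS.map σ.p₁
  let b := toRS.map σ.p₂
  let π := coequalizer.π a b
  let e : coequalizer a b ⟶ toRS.obj (Y σ) := coequalizer.desc (toRS.map (q σ)) hw
  have hπ : π ≫ e = toRS.map (q σ) := coequalizer.π_desc _ _
  let ep := SheafedSpace.forgetToPresheafedSpace.map e
  have hbase : IsIso ep.base := by
    let G := SheafedSpace.forget CommRingCat.{u}
    have hT := isColimitOfHasCoequalizerOfPreservesColimit G a b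
    have hconst : Function.FactorsThrough (G.map π : σ.X → _) (q σ) := fun x x' hxx => by
      obtain ⟨r, rfl, rfl⟩ := rel_of_q_eq σ hfin heqv x x' hxx
      exact congr($(congrArg G.map (coequalizer.condition a b)) r)
    let π' : C((σ.X : Type u), (G.obj (coequalizer a b) : Type u)) := ⟨(G.map π : σ.X → _), (G.map π).hom.continuous⟩
    let l := (isQuotientMap_q σ).lift (f := ⟨(q σ), (q σ).continuous⟩) π' hconst
    have hl : ∀ x, l ((q σ) x) = (G.map π) x := fun x =>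
      ContinuousMap.congr_fun ((isQuotientMap_q σ).lift_comp (f := ⟨(q σ), (q σ).continuous⟩) π' hconst) x
    have he : ∀ x, (G.map e) ((G.map π) x) = (q σ) x := fun x =>
      congr($(congrArg G.map hπ) x)
    refine ⟨⟨TopCat.ofHom l, Cofork.IsColimit.hom_ext hT ?_, ?_⟩⟩
    · refine ConcreteCategory.hom_ext _ _ fun x => ?_
      exact (congrArg l (he x)).trans (hl x)
    · refine ConcreteCategory.hom_ext _ _ fun y => ?_
      obtain ⟨x, rfl⟩ := q_surjective σ y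
      exact (congrArg _ (hl x)).trans (he x)
  haveI hcIso : IsIso ep.c := by
    let F : TopCat.Sheaf CommRingCat.{u} (Y σ).carrier := (Y σ).sheaf
    let G : TopCat.Sheaf CommRingCat.{u} (Y σ).carrier :=
      (TopCat.Sheaf.pushforward CommRingCat.{u} ep.base).obj (coequalizer a b).sheaf
    let ψ : F ⟶ G := ⟨ep.c⟩
    let P := SheafedSpace.forgetToPresheafedSpace (C := CommRingCat.{u})
    have hinj : ∀ U, Function.Injective ((P.map π).c.app (op U)) := fun U =>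
      app_injective_iso (colimit.ι (parallelPair (P.map a) (P.map b)) WalkingParallelPair.one)
        (app_injective_coequalizer (P.map a) (P.map b)) (PreservesCoequalizer.iso P a b).hom (P.map π)
        (PreservesCoequalizer.iso_hom P a b ▸ ι_comp_coequalizerComparison a b P) U
    have hψ : IsIso ψ := TopCat.Sheaf.isIso_iff_isIso_basis (isBasis_basis σ) fun i => by
      rw [ConcreteCategory.isIso_iff_bijective]
      refine app_bijective (P.map a) (P.map b) (P.map π)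
        (by rw [← P.map_comp, ← P.map_comp, coequalizer.condition]) hinj ep (P.map (toRS.map (q σ)))
        (by rw [← P.map_comp, hπ]) (by rw [← P.map_comp, ← P.map_comp, hw]) (basis σ i)
        (secProp_basis σ i).1 fun s hs => (secProp_basis σ i).2 s ?_
      exact eqz_of_app σ.p₁ σ.p₂ (q σ ⁻¹ᵁ basis σ i) s
        (by rw [← Scheme.Hom.comp_preimage, ← Scheme.Hom.comp_preimage, w]) hs
    exact inferInstanceAs (IsIso ((TopCat.Sheaf.forget CommRingCat.{u} (Y σ).carrier).map ψ))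
  haveI : IsIso (SheafedSpace.forgetToPresheafedSpace.map e) := PresheafedSpace.isIso_of_components ep
  haveI : IsIso e := isIso_of_reflects_iso e SheafedSpace.forgetToPresheafedSpace
  exact ⟨IsColimit.ofIsoColimit (coequalizerIsCoequalizer a b) (Cofork.ext (asIso e) hπ)⟩

end CoeqSch
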